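import Groth.Agent.J2CompleteLib.Local
import Groth.Agent.RegDesc.Basic
import Groth.Agent.S4573
import Groth.Prelude.Def_EGA4b

/-!
# Openness of the geometrically regular locus when `[k : k^p]` is finite
-/

set_option autoImplicit false
set_option linter.style.haveILetI false
set_option backward.isDefEq.respectTransparency false
set_option maxHeartbeats 1000000
universe u

open IsLocalRing TensorProduct

namespace Groth.Agent.GeomRegOpen

/-- The field of `p`-th roots of `k`. -/
def Root (k : Type u) (_p : ℕ) : Type u := k

noncomputable instance (k : Type u) [Field k] (p : ℕ) : Field (Root k p) := inferInstanceAs (Field k)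

noncomputable instance (k : Type u) [Field k] (p : ℕ) [ExpChar k p] : Algebra k (Root k p) :=
  (frobenius k p : k →+* k).toAlgebra

theorem finite_root (k : Type u) [Field k] (p : ℕ) [ExpChar k p]
    (hk : p = 1 ∨ Module.Finite (frobenius k p).fieldRange k) : Module.Finite k (Root k p) := by
  refine RingHom.finite_algebraMap.1 ?_
  show (frobenius k p : k →+* k).Finite
  rcases hk with rfl | h
  · rw [show frobenius k 1 = RingHom.id k from RingHom.ext fun x => pow_one x]
    exact RingHom.Finite.id k
  · have h1 : (algebraMap (frobenius k p).fieldRange k).Finite := RingHom.finite_algebraMap.2 h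
    have h2 : (frobenius k p).rangeRestrictField.Finite :=
      RingHom.Finite.of_surjective _ fun x => by
        obtain ⟨y, hy⟩ := x.2
        exact ⟨y, Subtype.ext hy⟩
    exact h1.comp h2

theorem pow_root (k : Type u) [Field k] (p : ℕ) [ExpChar k p] (x : Root k p) :
    x ^ p ∈ (algebraMap k (Root k p)).range := ⟨x, rfl⟩

theorem exists_algHom_root (k : Type u) [Field k] (p : ℕ) [ExpChar k p] (k' : Type u) [Field k'] [Algebra k k']
    (h : ∀ x : k', x ^ p ∈ (algebraMap k k').range) : Nonempty (k' →ₐ[k] Root k p) := by
  haveI : ExpChar k' p := expChar_of_injective_algebraMap (algebraMap k k').injective p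
  let e : k ≃+* (algebraMap k k').range := RingEquiv.ofBijective (algebraMap k k').rangeRestrict
    ⟨fun a b h => (algebraMap k k').injective (congrArg Subtype.val h), (algebraMap k k').rangeRestrict_surjective⟩
  let φ : k' →+* (algebraMap k k').range := (frobenius k' p).codRestrict _ h
  let σ : k' →+* Root k p := e.symm.toRingHom.comp φ
  refine ⟨{ σ with commutes' := fun c => ?_ }⟩
  show e.symm (φ (algebraMap k k' c)) = c ^ p
  rw [RingEquiv.symm_apply_eq]
  exact Subtype.ext (map_pow (algebraMap k k') c p).symm

theorem isRegularRing_root_iff (k C : Type u) [Field k] (p : ℕ) [ExpChar k p]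
    (hk : p = 1 ∨ Module.Finite (frobenius k p).fieldRange k) [CommRing C] [IsLocalRing C] [IsNoetherianRing C]
    [Algebra k C] :
    CAlgX.IsAdicFormallySmooth k C (maximalIdeal C) ↔ IsRegularRing (Root k p ⊗[k] C) := by
  rw [S4573.result p]
  constructor
  · exact fun h => h (Root k p) (finite_root k p hk) (pow_root k p)
  · intro h k' _ _ hfin hpow
    obtain ⟨σ⟩ := exists_algHom_root k p k' hpow
    letI : Algebra k' (Root k p) := σ.toRingHom.toAlgebra
    haveI : IsScalarTower k k' (Root k p) := IsScalarTower.of_algebraMap_eq fun x => (σ.commutes x).symm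
    haveI := hfin
    haveI : IsNoetherianRing (k' ⊗[k] C) := RegDesc.isNoetherianRing_tensor_essFiniteType k k' C
    exact RegDesc.isRegularRing_field_descent k k' (Root k p) C h

/-- The geometrically regular locus is open. -/
theorem isOpen_adicFormallySmooth {A R k : Type u} [CommRing A] [CommRing R] [Field k] (hA : EGA4.IsJ2 A)
    [Algebra A R] [Module.Finite A R] [IsNoetherianRing R] [Algebra k R] (p : ℕ) [ExpChar k p]
    (hk : p = 1 ∨ Module.Finite (frobenius k p).fieldRange k) :
    IsOpen {n : PrimeSpectrum R |
      CAlgX.IsAdicFormallySmooth k (Localization.AtPrime n.asIdeal) (maximalIdeal (Localization.AtPrime n.asIdeal))} := by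
  let K := Root k p
  haveI : Module.Finite k K := finite_root k p hk
  let T := K ⊗[k] R
  letI algRT : Algebra R T := Algebra.TensorProduct.rightAlgebra
  haveI : Module.Finite R T := Module.Finite.equiv (Algebra.TensorProduct.commRight k R K).toLinearEquiv
  haveI : IsNoetherianRing T := IsNoetherianRing.of_finite R T
  letI : Algebra A T := ((algebraMap R T).comp (algebraMap A R)).toAlgebra
  haveI : IsScalarTower A R T := IsScalarTower.of_algebraMap_eq fun _ => rfl
  haveI : Module.Finite A T := Module.Finite.trans R T
  have hZ : IsClosed (EGA4.regLocus T)ᶜ := (hA T inferInstance).isClosed_compl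
  let Z := PrimeSpectrum.comap (algebraMap R T) '' (EGA4.regLocus T)ᶜ
  have hclosed : IsClosed Z := by
    haveI : Algebra.IsIntegral R T := Algebra.IsIntegral.of_finite R T
    exact PrimeSpectrum.isClosedMap_comap_of_isIntegral _ Algebra.IsIntegral.isIntegral _ hZ
  suffices h : {n : PrimeSpectrum R |
      CAlgX.IsAdicFormallySmooth k (Localization.AtPrime n.asIdeal) (maximalIdeal (Localization.AtPrime n.asIdeal))} = Zᶜ by
    rw [h]; exact hclosed.isOpen_compl
  ext n
  let C := Localization.AtPrime n.asIdeal
  haveI : IsNoetherianRing C := IsLocalization.isNoetherianRing n.asIdeal.primeCompl _ inferInstance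
  refine (isRegularRing_root_iff k C p hk).trans ?_
  letI : Algebra T (K ⊗[k] C) :=
    (Algebra.TensorProduct.map (AlgHom.id k K) (IsScalarTower.toAlgHom k R C)).toRingHom.toAlgebra
  let M := Algebra.algebraMapSubmonoid T n.asIdeal.primeCompl
  haveI : IsLocalization M (K ⊗[k] C) := RegHomLib.isLocalization_tensor k K R C n.asIdeal.primeCompl
  haveI : IsNoetherianRing (K ⊗[k] C) := IsLocalization.isNoetherianRing M _ inferInstance
  constructor
  · rintro h ⟨N, hN, hNn⟩
    have hNn' : N.asIdeal.comap (algebraMap R T) = n.asIdeal := congrArg PrimeSpectrum.asIdeal hNn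
    have hdisj : Disjoint (M : Set T) (N.asIdeal : Set T) := Set.disjoint_left.2 fun x ⟨r, hr, e⟩ hx => by
      subst e
      exact hr (hNn'.le hx)
    let Q : PrimeSpectrum (K ⊗[k] C) :=
      ⟨N.asIdeal.map (algebraMap _ _), IsLocalization.isPrime_of_isPrime_disjoint M _ N.asIdeal N.isPrime hdisj⟩
    have h1 := (RegLocLib.mem_regLocus_iff_of_isLocalization M Q).1
      (@IsRegularRing.isRegularLocalRing_localization _ _ h Q.asIdeal Q.isPrime)
    rw [show PrimeSpectrum.comap (algebraMap T (K ⊗[k] C)) Q = N from
      PrimeSpectrum.ext (IsLocalization.under_map_of_isPrime_disjoint M _ N.isPrime hdisj)] at h1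
    exact hN h1
  · intro h
    refine isRegularRing_iff.2 fun Q hQ => ?_
    refine (RegLocLib.mem_regLocus_iff_of_isLocalization M (⟨Q, hQ⟩ : PrimeSpectrum (K ⊗[k] C))).2 ?_
    by_contra hN
    let N : PrimeSpectrum T := PrimeSpectrum.comap (algebraMap T (K ⊗[k] C)) ⟨Q, hQ⟩
    have hle : (N.asIdeal.comap (algebraMap R T)) ≤ n.asIdeal := fun r hr => by_contra fun hrn =>
      Set.disjoint_left.1 ((IsLocalization.isPrime_iff_isPrime_disjoint M (K ⊗[k] C) Q).1 hQ).2 ⟨r, hrn, rfl⟩ hr
    exact h (((PrimeSpectrum.le_iff_specializes _ _).1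
      (show PrimeSpectrum.comap (algebraMap R T) N ≤ n from hle)).mem_closed hclosed ⟨N, hN, rfl⟩)

end Groth.Agent.GeomRegOpen
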